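import Groth.Agent.FEtRegExt.Local
import Groth.Agent.FEtExtUnique.Main
import Mathlib.AlgebraicGeometry.RelativeGluing
import Mathlib.AlgebraicGeometry.Sites.SmallAffineZariski

/-!
# Finite etale covers extend past regular points, unramified in codimension one
-/

set_option autoImplicit false
set_option backward.isDefEq.respectTransparency false
set_option backward.defeqAttrib.useBackward true

universe u
open CategoryTheory CategoryTheory.Limits AlgebraicGeometry

noncomputable section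

namespace Groth.Agent.FEtRegExt

variable {X : Scheme.{u}} (U : X.Opens) {Y : Scheme.{u}} (g : Y ⟶ X)

/-- An extension over an open. -/
structure Ext (A : X.Opens) : Type (u + 1) where
  Z : Scheme.{u}
  z : Z ⟶ A.toScheme
  fin : IsFinite z
  et : Etale z
  q : (g ⁻¹ᵁ A).toScheme ⟶ Z
  open_q : IsOpenImmersion q
  w : q ≫ z = g ∣_ A
  range_q : z ⁻¹' (A.ι ⁻¹ᵁ U : Set A.toScheme) = Set.range q

attribute [instance] Ext.fin Ext.et Ext.open_q

/-- An extension over `U ⊔ A` restricts to `A`. -/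
theorem nonempty_ext_of_sup (f : Y ⟶ U.toScheme) (hf : f ≫ U.ι = g) (A : X.Opens) {Z : Scheme.{u}}
    (p : Z ⟶ (U ⊔ A : X.Opens).toScheme) (j : Y ⟶ Z) [IsFinite p] [Etale p]
    (sq : IsPullback j f p (X.homOfLE (le_sup_left : U ≤ U ⊔ A))) : Nonempty (Ext U g A) := by
  let i := X.homOfLE (le_sup_right : A ≤ U ⊔ A)
  haveI : IsOpenImmersion j := MorphismProperty.of_isPullback sq.flip inferInstance
  let q : (g ⁻¹ᵁ A).toScheme ⟶ pullback p i := pullback.lift ((g ⁻¹ᵁ A).ι ≫ j) (g ∣_ A) (by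
    rw [← cancel_mono (U ⊔ A).ι, Category.assoc, Category.assoc, Category.assoc, Scheme.homOfLE_ι,
      morphismRestrict_ι, reassoc_of% sq.w, Scheme.homOfLE_ι, hf])
  haveI : IsOpenImmersion (q ≫ pullback.fst p i) := by rw [pullback.lift_fst]; infer_instance
  haveI : IsOpenImmersion q := IsOpenImmersion.of_comp q (pullback.fst p i)
  have hj : Set.range j = p ⁻¹' Set.range (X.homOfLE (le_sup_left : U ≤ U ⊔ A)) := by
    ext z
    constructor
    · rintro ⟨y, rfl⟩
      exact ⟨f y, by rw [← Scheme.Hom.comp_apply, ← sq.w, Scheme.Hom.comp_apply]⟩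
    · rintro ⟨u, hu⟩
      obtain ⟨r, hr1, -⟩ := Scheme.Pullback.exists_preimage_pullback z u hu.symm
      exact ⟨sq.isoPullback.inv r, by rw [← Scheme.Hom.comp_apply, sq.isoPullback_inv_fst, hr1]⟩
  refine ⟨⟨pullback p i, pullback.snd p i, MorphismProperty.pullback_snd (P := @IsFinite) _ _ ‹_›,
    MorphismProperty.pullback_snd (P := @Etale) _ _ ‹_›, q, ‹_›, pullback.lift_snd _ _ _, ?_⟩⟩
  ext z
  constructor
  · intro hz
    have hzU : A.ι (pullback.snd p i z) ∈ U := hz
    have h1 : pullback.fst p i z ∈ Set.range j := by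
      rw [hj]
      refine ⟨⟨_, hzU⟩, (U ⊔ A).ι.isOpenEmbedding.injective ?_⟩
      have e : pullback.fst p i ≫ p ≫ (U ⊔ A).ι = pullback.snd p i ≫ A.ι := by
        rw [pullback.condition_assoc, Scheme.homOfLE_ι]
      have e' := congr($e z)
      simp only [Scheme.Hom.comp_apply] at e'
      rw [e', ← Scheme.Hom.comp_apply, Scheme.homOfLE_ι]
      rfl
    obtain ⟨y, hy⟩ := h1
    have hgy : g y ∈ A := by
      rw [← hf, Scheme.Hom.comp_apply]
      have h2 : (U ⊔ A).ι (p (j y)) = A.ι (pullback.snd p i z) := by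
        rw [hy, ← Scheme.Hom.comp_apply p, ← Scheme.Hom.comp_apply (pullback.fst p i),
          pullback.condition_assoc, Scheme.homOfLE_ι, Scheme.Hom.comp_apply]
      rw [← Scheme.Hom.comp_apply p, ← Scheme.Hom.comp_apply j, reassoc_of% sq.w,
        Scheme.homOfLE_ι, Scheme.Hom.comp_apply] at h2
      rw [h2]
      exact (pullback.snd p i z).2
    refine ⟨⟨y, hgy⟩, (pullback.fst p i).isOpenEmbedding.injective ?_⟩
    rw [← Scheme.Hom.comp_apply, pullback.lift_fst, Scheme.Hom.comp_apply]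
    exact hy
  · rintro ⟨y, rfl⟩
    change A.ι (pullback.snd p i (q y)) ∈ U
    rw [← Scheme.Hom.comp_apply q, pullback.lift_snd, ← Scheme.Hom.comp_apply, morphismRestrict_ι,
      Scheme.Hom.comp_apply, show ∀ w, g w = U.ι (f w) from fun w => by rw [← hf]; rfl]
    exact (f _).2

omit U in
/-- Morphisms out of `Y` glue along the preimages of the affine opens of `X`. -/
theorem exists_glue_preimages {T : Scheme.{u}}
    (m : ∀ A : X.AffineZariskiSite, (g ⁻¹ᵁ A.toOpens).toScheme ⟶ T)
    (hm : ∀ (A B : X.AffineZariskiSite) (h : A ⟶ B),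
      Y.homOfLE (g.preimage_mono (Scheme.AffineZariskiSite.toOpens_mono (leOfHom h))) ≫ m B = m A) :
    ∃ j : Y ⟶ T, ∀ A : X.AffineZariskiSite, (g ⁻¹ᵁ A.toOpens).ι ≫ j = m A := by
  let j : Y ⟶ T := Scheme.OpenCover.glueMorphismsOfLocallyDirected
    ((Scheme.AffineZariskiSite.directedCover X).pullback₁ g)
    (fun A => (pullbackRestrictIsoRestrict g _).hom ≫ m A)
    fun {A B : X.AffineZariskiSite} i => by
    have e : (pullbackRestrictIsoRestrict g A.1).inv ≫
        Scheme.Cover.trans ((Scheme.AffineZariskiSite.directedCover X).pullback₁ g) i ≫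
        (pullbackRestrictIsoRestrict g B.1).hom =
          Y.homOfLE (g.preimage_mono (Scheme.AffineZariskiSite.toOpens_mono i.1.1)) := by
      rw [← cancel_mono (Scheme.Opens.ι _)]
      simp +instances [Scheme.Cover.trans, Scheme.Cover.locallyDirectedPullbackCover]
    rw [← Iso.inv_comp_eq, reassoc_of% e]
    exact hm A B i
  refine ⟨j, fun A => ?_⟩
  rw [← cancel_epi (pullbackRestrictIsoRestrict g A.toOpens).hom, ← Category.assoc,
    pullbackRestrictIsoRestrict_hom_ι]
  exact Scheme.OpenCover.map_glueMorphismsOfLocallyDirected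
    (𝒰 := (Scheme.AffineZariskiSite.directedCover X).pullback₁ g) _ _ A

omit U in
/-- Morphisms out of `Y` agreeing on the preimages of the affine opens of `X` agree. -/
theorem hom_ext_preimages {T : Scheme.{u}} (a b : Y ⟶ T)
    (h : ∀ A : X.AffineZariskiSite, (g ⁻¹ᵁ A.toOpens).ι ≫ a = (g ⁻¹ᵁ A.toOpens).ι ≫ b) : a = b := by
  refine Scheme.Cover.hom_ext ((Scheme.AffineZariskiSite.directedCover X).pullback₁ g) _ _ fun A => ?_
  change pullback.fst g A.toOpens.ι ≫ a = pullback.fst g A.toOpens.ι ≫ b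
  rw [← pullbackRestrictIsoRestrict_hom_ι, Category.assoc, Category.assoc, h]

variable [IsLocallyNoetherian X] {U g}
  (hU : Dense (U : Set X)) (hreg : ∀ x : X, x ∉ U → IsRegularLocalRing (X.presheaf.stalk x))

include hU hreg in
/-- The comparison maps between extensions exist, uniquely, and are cartesian. -/
theorem exists_trans {A B : X.Opens} (h : A ≤ B) (EA : Ext U g A) (EB : Ext U g B) :
    ∃ t : EA.Z ⟶ EB.Z, IsPullback t EA.z EB.z (X.homOfLE h) ∧
      EA.q ≫ t = Y.homOfLE (g.preimage_mono h) ≫ EB.q ∧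
      ∀ t' : EA.Z ⟶ EB.Z, t' ≫ EB.z = EA.z ≫ X.homOfLE h →
        EA.q ≫ t' = Y.homOfLE (g.preimage_mono h) ≫ EB.q → t' = t := by
  let i := X.homOfLE h
  let z' := pullback.snd EB.z i
  haveI : IsFinite z' := MorphismProperty.pullback_snd (P := @IsFinite) _ _ EB.fin
  haveI : Etale z' := MorphismProperty.pullback_snd (P := @Etale) _ _ EB.et
  let q' : (g ⁻¹ᵁ A).toScheme ⟶ pullback EB.z i :=
    pullback.lift (Y.homOfLE (g.preimage_mono h) ≫ EB.q) (g ∣_ A) (by
      rw [← cancel_mono B.ι, Category.assoc, Category.assoc, Category.assoc, reassoc_of% EB.w,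
        morphismRestrict_ι, Scheme.homOfLE_ι_assoc, Scheme.homOfLE_ι, morphismRestrict_ι])
  haveI : IsOpenImmersion (q' ≫ pullback.fst EB.z i) := by rw [pullback.lift_fst]; infer_instance
  haveI : IsOpenImmersion q' := IsOpenImmersion.of_comp q' (pullback.fst EB.z i)
  have hO : Dense (A.ι ⁻¹ᵁ U : Set A.toScheme) := hU.preimage A.ι.isOpenEmbedding.isOpenMap
  have hregA : ∀ v : A.toScheme, v ∉ A.ι ⁻¹ᵁ U → IsRegularLocalRing (A.toScheme.presheaf.stalk v) :=
    fun v hv => by
      haveI := hreg v.1 hv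
      exact IsRegularLocalRing.of_ringEquiv (A.stalkIso v).commRingCatIsoToRingEquiv.symm
  have hr' : z' ⁻¹' (A.ι ⁻¹ᵁ U : Set A.toScheme) = Set.range q' := by
    ext w
    constructor
    · intro hw
      have hB : B.ι (EB.z (pullback.fst EB.z i w)) = A.ι (z' w) := by
        rw [← Scheme.Hom.comp_apply, ← Scheme.Hom.comp_apply, pullback.condition_assoc,
          Scheme.homOfLE_ι, Scheme.Hom.comp_apply]
      have h1 : pullback.fst EB.z i w ∈ Set.range EB.q := by
        rw [← EB.range_q]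
        change B.ι (EB.z (pullback.fst EB.z i w)) ∈ U
        rw [hB]; exact hw
      obtain ⟨y, hy⟩ := h1
      rw [← hy, ← Scheme.Hom.comp_apply EB.z, ← Scheme.Hom.comp_apply, reassoc_of% EB.w, morphismRestrict_ι,
        Scheme.Hom.comp_apply] at hB
      have hyA : g y.1 ∈ A := by rw [show g y.1 = _ from hB]; exact (z' w).2
      refine ⟨⟨y.1, hyA⟩, (pullback.fst EB.z i).isOpenEmbedding.injective ?_⟩
      rw [← Scheme.Hom.comp_apply, pullback.lift_fst, ← hy, Scheme.Hom.comp_apply]
      congr 1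
      apply (g ⁻¹ᵁ B).ι.isOpenEmbedding.injective
      rw [← Scheme.Hom.comp_apply, Scheme.homOfLE_ι]
      rfl
    · rintro ⟨y, rfl⟩
      have h2 : EA.q y ∈ EA.z ⁻¹' (A.ι ⁻¹ᵁ U : Set A.toScheme) := EA.range_q ▸ ⟨y, rfl⟩
      change EA.z (EA.q y) ∈ A.ι ⁻¹ᵁ U at h2
      change z' (q' y) ∈ A.ι ⁻¹ᵁ U
      rw [← Scheme.Hom.comp_apply, pullback.lift_snd]
      rwa [← Scheme.Hom.comp_apply, EA.w] at h2
  obtain ⟨t₀, ht₀, ht1, ht2⟩ := FEtExtUnique.exists_iso (A.ι ⁻¹ᵁ U) hO hregA EA.z z' EA.q q'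
    (by rw [EA.w, pullback.lift_snd]) EA.range_q hr'
  refine ⟨t₀ ≫ pullback.fst EB.z i, ?_, ?_, fun t' h1 h2 => ?_⟩
  · haveI := ht₀
    refine IsPullback.of_iso_pullback ⟨?_⟩ (asIso t₀) rfl ht1
    rw [Category.assoc, pullback.condition, ← ht1, Category.assoc]
  · rw [reassoc_of% ht2, pullback.lift_fst]
  · refine FEtExtUnique.eq_of_dense EB.z t' _ ?_ EA.q ?_ ?_
    · rw [h1, Category.assoc, pullback.condition, ← ht1, Category.assoc]
    · rw [← EA.range_q]
      exact hO.preimage EA.z.isOpenMap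
    · rw [h2, reassoc_of% ht2, pullback.lift_fst]

set_option maxHeartbeats 1600000 in
omit [IsLocallyNoetherian X] in
/-- Gluing of extensions given as a relative gluing datum. -/
theorem exists_glued_aux (f : Y ⟶ U.toScheme) (hf : f ≫ U.ι = g)
    (d : Scheme.Cover.RelativeGluingData (Scheme.AffineZariskiSite.directedCover X))
    (q : ∀ A : X.AffineZariskiSite, (g ⁻¹ᵁ A.toOpens).toScheme ⟶ d.functor.obj A)
    (hfin : ∀ A, IsFinite (d.natTrans.app A)) (het : ∀ A, Etale (d.natTrans.app A))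
    (hq : ∀ A, IsOpenImmersion (q A))
    (hw : ∀ A, q A ≫ d.natTrans.app A = g ∣_ A.toOpens)
    (hr : ∀ A, d.natTrans.app A ⁻¹' (A.toOpens.ι ⁻¹ᵁ U : Set A.toOpens.toScheme) = Set.range (q A))
    (hc : ∀ (A B : X.AffineZariskiSite) (h : A ⟶ B), q A ≫ d.functor.map h =
      Y.homOfLE (g.preimage_mono (Scheme.AffineZariskiSite.toOpens_mono (leOfHom h))) ≫ q B) :
    ∃ (Z : Scheme.{u}) (p : Z ⟶ X) (j : Y ⟶ Z), IsFinite p ∧ Etale p ∧ IsPullback j f p U.ι := by
  haveI : Quiver.IsThin (Scheme.AffineZariskiSite.directedCover X).I₀ :=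
    inferInstanceAs (Quiver.IsThin X.AffineZariskiSite)
  haveI : (d.functor ⋙ Scheme.forget).IsLocallyDirected :=
    Scheme.Cover.RelativeGluingData.instIsLocallyDirectedI₀CompFunctorForgetOfIsThin ..
  haveI : HasColimit d.functor := inferInstance
  let p := d.toBase
  have hpb : ∀ A : X.AffineZariskiSite, IsPullback (d.natTrans.app A) (colimit.ι d.functor A) A.toOpens.ι p :=
    fun A => d.isPullback_natTrans_ι_toBase A
  have key : ∀ (P : MorphismProperty Scheme.{u}) [IsZariskiLocalAtTarget P],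
      (∀ A, P (d.natTrans.app A)) → P p := by
    intro P _ hP
    refine IsZariskiLocalAtTarget.of_openCover (Scheme.AffineZariskiSite.directedCover X) fun A => ?_
    change P (pullback.snd p A.toOpens.ι)
    rw [← MorphismProperty.cancel_left_of_respectsIso P (hpb A).flip.isoPullback.hom,
      (hpb A).flip.isoPullback_hom_snd]
    exact hP A
  obtain ⟨j, hj⟩ := exists_glue_preimages g (fun A => q A ≫ colimit.ι d.functor A)
    (fun A B h => by
      rw [← Category.assoc, ← hc A B h, Category.assoc]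
      exact congrArg (q A ≫ ·) (colimit.w d.functor h))
  have hjp : j ≫ p = g := by
    refine hom_ext_preimages g _ _ fun A => ?_
    rw [← Category.assoc, hj, Category.assoc, ← (hpb A).w, reassoc_of% hw A, morphismRestrict_ι]
  have hpre : ∀ A : X.AffineZariskiSite,
      p ⁻¹' (A.toOpens : Set X) = Set.range (colimit.ι d.functor A) := by
    intro A
    have h := d.preimage_toBase_eq_range_ι A
    rw [show Set.range ((Scheme.AffineZariskiSite.directedCover X).f A) = (A.toOpens : Set X) from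
      A.toOpens.range_ι] at h
    exact h
  have hsqA : ∀ A : X.AffineZariskiSite,
      IsPullback (g ⁻¹ᵁ A.toOpens).ι (q A) j (colimit.ι d.functor A) := by
    intro A
    refine (IsOpenImmersion.isPullback (q A) (g ⁻¹ᵁ A.toOpens).ι (colimit.ι d.functor A) j
      (hj A) ?_).flip
    ext y
    change j y ∈ Set.range (colimit.ι d.functor A) ↔ y ∈ Set.range (g ⁻¹ᵁ A.toOpens).ι
    rw [← hpre A, Scheme.Opens.range_ι, Set.mem_preimage, ← Scheme.Hom.comp_apply, hjp]
    rfl
  haveI : IsOpenImmersion j := by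
    refine IsZariskiLocalAtTarget.of_openCover d.cover fun A => ?_
    change IsOpenImmersion (pullback.snd j (colimit.ι d.functor A))
    rw [← MorphismProperty.cancel_left_of_respectsIso (P := @IsOpenImmersion)
      (hsqA A).isoPullback.hom, (hsqA A).isoPullback_hom_snd]
    exact hq A
  refine ⟨d.glued, p, j, key @IsFinite hfin, key @Etale het, ?_⟩
  refine (IsOpenImmersion.isPullback f j U.ι p (by rw [hjp, hf]) ?_).flip
  ext z
  change p z ∈ Set.range U.ι ↔ z ∈ Set.range j
  rw [Scheme.Opens.range_ι]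
  constructor
  · intro hz
    obtain ⟨_, ⟨A, hA, rfl⟩, hzA, -⟩ :=
      X.isBasis_affineOpens.exists_subset_of_mem_open (Set.mem_univ (p z)) isOpen_univ
    let A' : X.AffineZariskiSite := ⟨A, hA⟩
    obtain ⟨w, rfl⟩ := (hpre A').le hzA
    have h1 : (d.natTrans.app A') w ∈ A'.toOpens.ι ⁻¹ᵁ U := by
      have e' := congr($((hpb A').w) w)
      rw [Scheme.Hom.comp_apply, Scheme.Hom.comp_apply] at e'
      change A'.toOpens.ι ((d.natTrans.app A') w) ∈ U
      exact Set.mem_of_eq_of_mem e' hz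
    obtain ⟨y, rfl⟩ := (hr A').le h1
    exact ⟨(g ⁻¹ᵁ A'.toOpens).ι y, by rw [← Scheme.Hom.comp_apply, hj, Scheme.Hom.comp_apply]⟩
  · rintro ⟨y, rfl⟩
    show p (j y) ∈ U
    rw [← Scheme.Hom.comp_apply, hjp, ← hf, Scheme.Hom.comp_apply]
    exact (f y).2

include hU hreg in
/-- The extensions over the affine opens glue. -/
theorem exists_glued (f : Y ⟶ U.toScheme) (hf : f ≫ U.ι = g)
    (E : ∀ A : X.AffineZariskiSite, Ext U g A.toOpens) :
    ∃ (Z : Scheme.{u}) (p : Z ⟶ X) (j : Y ⟶ Z), IsFinite p ∧ Etale p ∧ IsPullback j f p U.ι := by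
  have ht := fun (A B : X.AffineZariskiSite) (h : A ⟶ B) =>
    exists_trans hU hreg (Scheme.AffineZariskiSite.toOpens_mono (leOfHom h)) (E A) (E B)
  choose t ht1 ht2 ht3 using ht
  let F : X.AffineZariskiSite ⥤ Scheme.{u} :=
    { obj := fun A => (E A).Z
      map := fun {A B} h => t A B h
      map_id := fun A => (ht3 A A (𝟙 A) (𝟙 _) (by simp) (by simp)).symm
      map_comp := fun {A B C} h k => (ht3 A C (h ≫ k) _
        (by rw [Category.assoc, (ht1 B C k).w, ← Category.assoc, (ht1 A B h).w, Category.assoc,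
          Scheme.homOfLE_homOfLE])
        (by rw [reassoc_of% ht2 A B h, ht2 B C k, Scheme.homOfLE_homOfLE_assoc])).symm }
  let η : F ⟶ (Scheme.AffineZariskiSite.directedCover X).functorOfLocallyDirected :=
    { app := fun A => (E A).z
      naturality := fun A B h => (ht1 A B h).w }
  let d : Scheme.Cover.RelativeGluingData (Scheme.AffineZariskiSite.directedCover X) :=
    { functor := F
      natTrans := η
      equifibered := fun {A B} h => ht1 A B h }
  exact exists_glued_aux f hf d (fun A => (E A).q) (fun A => (E A).fin) (fun A => (E A).et)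
    (fun A => (E A).open_q) (fun A => (E A).w) (fun A => (E A).range_q) ht2

/-- Finite etale covers of a dense open with regular complement, unramified in codimension one,
extend. -/
theorem exists_extension_global {X : Scheme.{u}} [IsLocallyNoetherian X] (U : X.Opens)
    (hU : Dense (U : Set X)) (Y : FEt.Cat (U : Scheme.{u}))
    (hreg : ∀ x : X, x ∉ U → IsRegularLocalRing (X.presheaf.stalk x))
    (hunr : ∀ ξ : X, ξ ∉ U → ringKrullDim (X.presheaf.stalk ξ) = 1 →
      ∃ Yξ : FEt.Cat (Spec (X.presheaf.stalk ξ)),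
        Nonempty ((FEt.restrict (pullback.snd U.ι (X.fromSpecStalk ξ))).obj Yξ ≅
          (FEt.restrict (pullback.fst U.ι (X.fromSpecStalk ξ))).obj Y)) :
    ∃ Y' : FEt.Cat X, Nonempty ((FEt.restrict U.ι).obj Y' ≅ Y) := by
  let f : Y.left ⟶ U.toScheme := Y.hom
  have hE : ∀ A : X.AffineZariskiSite, Nonempty (Ext U (f ≫ U.ι) A.toOpens) := by
    intro A
    obtain ⟨Z, p, j, h1, h2, sq⟩ := exists_local U hU Y hreg hunr A.toOpens A.2
    haveI := h1
    haveI := h2
    exact nonempty_ext_of_sup U _ f rfl A.toOpens p j sq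
  obtain ⟨Z, p, j, h1, h2, sq⟩ := exists_glued hU hreg f rfl fun A => (hE A).some
  refine ⟨MorphismProperty.Over.mk ⊤ p ⟨h1, h2⟩, ⟨?_⟩⟩
  exact MorphismProperty.Over.isoMk sq.isoPullback.symm sq.isoPullback_inv_snd

end Groth.Agent.FEtRegExt
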