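import Groth.Agent.FEtSpreadGlue.Main
import Groth.Agent.DimFormulaLib.Misc
import Groth.Agent.PurityLib.Normal
import Groth.Agent.S0247
import Groth.Prelude.Def_Pi1

/-!
# Extension of a finite etale cover to an affine open past regular points
-/

set_option autoImplicit false
set_option backward.isDefEq.respectTransparency false
set_option backward.defeqAttrib.useBackward true

universe u
open CategoryTheory CategoryTheory.Limits AlgebraicGeometry

noncomputable section

namespace Groth.Agent.FEtRegExt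

open FEtSpreadGlue

/-- `extend_at` for any presentation of the overlap with the local scheme. -/
theorem extend_at' {X : Scheme.{u}} [IsLocallyNoetherian X] (W : X.Opens) {V : Scheme.{u}}
    (a : V ⟶ W.toScheme) [IsFinite a] [Etale a] (x : X) {Z : Scheme.{u}}
    (z : Z ⟶ Spec (X.presheaf.stalk x)) [IsFinite z] [Etale z] {P : Scheme.{u}}
    {g₁ : P ⟶ W.toScheme} {g₂ : P ⟶ Spec (X.presheaf.stalk x)}
    (hP : IsPullback g₁ g₂ W.ι (X.fromSpecStalk x))
    (θ : pullback a g₁ ≅ pullback z g₂) (hθ : θ.hom ≫ pullback.snd _ _ = pullback.snd _ _) :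
    ∃ (W' : X.Opens) (hle : W ≤ W') (Y : Scheme.{u}) (p : Y ⟶ W'.toScheme) (j : V ⟶ Y),
      x ∈ W' ∧ IsFinite p ∧ Etale p ∧ IsPullback j a p (X.homOfLE hle) := by
  have sA : IsPullback (pullback.fst a g₁) (pullback.snd a g₁ ≫ hP.isoPullback.hom) a
      (pullback.fst W.ι (X.fromSpecStalk x)) :=
    (IsPullback.of_hasPullback a g₁).of_iso (Iso.refl _) (Iso.refl _) hP.isoPullback (Iso.refl _)
      (by simp) (by simp) (by simp) (by simp)
  have sB : IsPullback (pullback.fst z g₂) (pullback.snd z g₂ ≫ hP.isoPullback.hom) z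
      (pullback.snd W.ι (X.fromSpecStalk x)) :=
    (IsPullback.of_hasPullback z g₂).of_iso (Iso.refl _) (Iso.refl _) hP.isoPullback (Iso.refl _)
      (by simp) (by simp) (by simp) (by simp)
  refine extend_at W a x z (sA.isoPullback.symm ≪≫ θ ≪≫ sB.isoPullback) ?_
  rw [← cancel_epi sA.isoPullback.hom]
  simp only [Iso.trans_hom, Iso.symm_hom, Category.assoc, Iso.hom_inv_id_assoc,
    IsPullback.isoPullback_hom_snd]
  rw [← Category.assoc, hθ]

/-- Over an affine open, a cover extending over the regular points of codimension one extends. -/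
theorem exists_local {X : Scheme.{u}} [IsLocallyNoetherian X] (U : X.Opens) (hU : Dense (U : Set X))
    (Y : FEt.Cat (U : Scheme.{u}))
    (hreg : ∀ x : X, x ∉ U → IsRegularLocalRing (X.presheaf.stalk x))
    (hunr : ∀ ξ : X, ξ ∉ U → ringKrullDim (X.presheaf.stalk ξ) = 1 →
      ∃ Yξ : FEt.Cat (Spec (X.presheaf.stalk ξ)),
        Nonempty ((FEt.restrict (pullback.snd U.ι (X.fromSpecStalk ξ))).obj Yξ ≅
          (FEt.restrict (pullback.fst U.ι (X.fromSpecStalk ξ))).obj Y))
    (A : X.Opens) (hA : IsAffineOpen A) :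
    ∃ (Z : Scheme.{u}) (p : Z ⟶ (U ⊔ A : X.Opens).toScheme) (j : Y.left ⟶ Z),
      IsFinite p ∧ Etale p ∧ IsPullback j Y.hom p (X.homOfLE (le_sup_left : U ≤ U ⊔ A)) := by
  haveI : IsFinite Y.hom := Y.prop.1
  haveI : Etale Y.hom := Y.prop.2
  haveI : IsNoetherianRing Γ(X, A) := IsLocallyNoetherian.component_noetherian ⟨A, hA⟩
  haveI : TopologicalSpace.NoetherianSpace A.toScheme :=
    (TopologicalSpace.noetherianSpace_iff_of_homeomorph hA.isoSpec.hom.homeomorph).mpr inferInstance
  let S : Set X.Opens := {W | W ≤ U ⊔ A ∧ ∃ (hle : U ≤ W) (Z : Scheme.{u}) (p : Z ⟶ W.toScheme)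
    (j : Y.left ⟶ Z), IsFinite p ∧ Etale p ∧ IsPullback j Y.hom p (X.homOfLE hle)}
  haveI : IsIso (X.homOfLE (le_refl U)) := by rw [Scheme.homOfLE_rfl]; infer_instance
  have hne : S.Nonempty := ⟨U, le_sup_left, le_rfl, Y.left, Y.hom, 𝟙 _, Y.prop.1, Y.prop.2,
    IsPullback.of_horiz_isIso ⟨by simp⟩⟩
  obtain ⟨W, ⟨hWT, hle, Z, p, j, hp1, hp2, hsq⟩, hWmax⟩ :=
    WellFounded.has_min (InvImage.wf (fun W : X.Opens => A.ι ⁻¹ᵁ W) wellFounded_gt) S hne
  haveI := hp1
  haveI := hp2
  by_cases hAW : A ≤ W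
  · obtain rfl : W = U ⊔ A := le_antisymm hWT (sup_le hle hAW)
    exact ⟨Z, p, j, hp1, hp2, hsq⟩
  exfalso
  obtain ⟨a, haA, haW⟩ := Set.not_subset.mp hAW
  -- a maximal point outside `W` generalizing `a`
  obtain ⟨x, hxW, hxa, hxmax⟩ : ∃ x : X, x ∉ W ∧ x ⤳ a ∧ ∀ y : X, y ∉ W → y ⤳ x → y = x := by
    let D : Set X := (W : Set X)ᶜ
    have hD : IsClosed D := W.isOpen.isClosed_compl
    let c := irreducibleComponent (⟨a, haW⟩ : D)
    have hc := irreducibleComponent_mem_irreducibleComponents (⟨a, haW⟩ : D)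
    haveI : QuasiSober D := (hD.isClosedEmbedding_subtypeVal).quasiSober
    obtain ⟨x, hx⟩ := QuasiSober.sober hc.1 (isClosed_of_mem_irreducibleComponents _ hc)
    refine ⟨x.1, x.2, (hx.specializes mem_irreducibleComponent).map continuous_subtype_val,
      fun y hy hyx => ?_⟩
    have h1 : closure {(⟨y, hy⟩ : D)} ⊆ c := hc.2 isIrreducible_singleton.closure (by
      rw [← hx.def]
      exact closure_minimal (Set.singleton_subset_iff.2
        (specializes_iff_mem_closure.1 (Topology.IsInducing.subtypeVal.specializes_iff.1 hyx)))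
        isClosed_closure)
    have h2 : x.1 ⤳ y := (hx.specializes (h1 (subset_closure rfl))).map continuous_subtype_val
    exact (hyx.antisymm h2).eq
  have hxA : x ∈ A := hxa.mem_open A.2 haA
  have hxU : x ∉ U := fun h => hxW (hle h)
  haveI := hreg x hxU
  obtain ⟨gW, hgW⟩ := exists_isPullback_punctured W x hxW hxmax
  haveI := (PurityLib.isIntegrallyClosed_of_regular (X.presheaf.stalk x)).1
  -- maximal points lie in `U`
  have hfield : ∀ t : Spec (X.presheaf.stalk x),
      (t : PrimeSpectrum (X.presheaf.stalk x)).asIdeal = ⊥ → X.fromSpecStalk x t ∈ U := by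
    intro t ht
    refine DimFormulaLib.mem_of_dense U.2 hU fun w hw => ?_
    have hwx : w ∈ Set.range (X.fromSpecStalk x) := by
      rw [Scheme.range_fromSpecStalk]
      have : X.fromSpecStalk x t ∈ Set.range (X.fromSpecStalk x) := ⟨t, rfl⟩
      rw [Scheme.range_fromSpecStalk] at this
      exact hw.trans this
    obtain ⟨s, rfl⟩ := hwx
    refine congrArg _ (((X.fromSpecStalk x).isEmbedding.isInducing.specializes_iff.mp hw).antisymm ?_).eq
    refine (PrimeSpectrum.le_iff_specializes (t : PrimeSpectrum (X.presheaf.stalk x)) s).1 ?_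
    rw [← PrimeSpectrum.asIdeal_le_asIdeal, ht]
    exact bot_le
  suffices hext : ∃ (Zx : FEt.Cat (Spec (X.presheaf.stalk x)))
      (θ : pullback p gW ≅ pullback Zx.hom (FEt.puncturedSpec (X.presheaf.stalk x)).ι),
      θ.hom ≫ pullback.snd _ _ = pullback.snd _ _ by
    obtain ⟨Zx, θ, hθ⟩ := hext
    haveI : IsFinite Zx.hom := Zx.prop.1
    haveI : Etale Zx.hom := Zx.prop.2
    obtain ⟨W', hWW', Z', p', j', hxW', hp'1, hp'2, hsq'⟩ := extend_at' W p x Zx.hom hgW θ hθ
    let W'' : X.Opens := W' ⊓ (U ⊔ A)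
    have hWW'' : W ≤ W'' := le_inf hWW' hWT
    refine hWmax W'' ⟨inf_le_right, hle.trans hWW'', pullback p' (X.homOfLE inf_le_left),
      pullback.snd _ _, j ≫ pullback.lift j' (p ≫ X.homOfLE hWW'') ?_,
      MorphismProperty.pullback_snd (P := @IsFinite) _ _ hp'1,
      MorphismProperty.pullback_snd (P := @Etale) _ _ hp'2, ?_⟩ ?_
    · rw [hsq'.w, Category.assoc, Scheme.homOfLE_homOfLE]
    · have h1 : IsPullback (pullback.lift j' (p ≫ X.homOfLE hWW'') (by
          rw [hsq'.w, Category.assoc, Scheme.homOfLE_homOfLE])) p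
          (pullback.snd p' (X.homOfLE (inf_le_left : W'' ≤ W'))) (X.homOfLE hWW'') :=
        IsPullback.of_right (by rw [pullback.lift_fst, Scheme.homOfLE_homOfLE]; exact hsq')
          (pullback.lift_snd _ _ _) (IsPullback.of_hasPullback _ _)
      have h3 := hsq.paste_horiz h1
      convert h3 using 1
      rw [Scheme.homOfLE_homOfLE]
    · change A.ι ⁻¹ᵁ W < A.ι ⁻¹ᵁ W''
      refine lt_of_le_of_ne (A.ι.preimage_mono hWW'') fun e => hxW ?_
      have hmem : (⟨x, hxA⟩ : A.toScheme) ∈ A.ι ⁻¹ᵁ W'' := ⟨hxW', Or.inr hxA⟩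
      rw [← e] at hmem
      exact hmem
  by_cases h1 : ringKrullDim (X.presheaf.stalk x) = 1
  · obtain ⟨Yξ, ⟨φ⟩⟩ := hunr x hxU h1
    haveI : Ring.KrullDimLE 1 (X.presheaf.stalk x) := Ring.krullDimLE_iff.mpr h1.le
    obtain ⟨gU, hgU⟩ := exists_isPullback_punctured U x hxU (fun y hy hyx => by
      by_contra hne
      have hr : y ∈ Set.range (X.fromSpecStalk x) := by rw [Scheme.range_fromSpecStalk]; exact hyx
      obtain ⟨t, rfl⟩ := hr
      refine hy (hfield t ?_)
      by_contra ht
      haveI : (t : PrimeSpectrum (X.presheaf.stalk x)).asIdeal.IsMaximal := by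
        haveI : Ring.DimensionLEOne (X.presheaf.stalk x) := ⟨fun {q} hq hp => (Ring.krullDimLE_one_iff_of_noZeroDivisors.mp inferInstance) q hq hp⟩
        exact (t : PrimeSpectrum (X.presheaf.stalk x)).2.isMaximal ht
      exact hne (by
        rw [show t = IsLocalRing.closedPoint (X.presheaf.stalk x) from
          PrimeSpectrum.ext (IsLocalRing.eq_maximalIdeal this), Scheme.fromSpecStalk_closedPoint]))
    have hgg : gU ≫ X.homOfLE hle = gW := by
      rw [← cancel_mono W.ι, Category.assoc, Scheme.homOfLE_ι, hgU.w, hgW.w]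
    let φ' : pullback Yξ.hom (pullback.snd U.ι (X.fromSpecStalk x)) ≅
        pullback Y.hom (pullback.fst U.ι (X.fromSpecStalk x)) :=
      (MorphismProperty.Over.forget _ _ _ ⋙ Over.forget _).mapIso φ
    have hφ' : φ'.hom ≫ pullback.snd Y.hom _ = pullback.snd Yξ.hom _ :=
      MorphismProperty.Over.w φ.hom
    let u := hgU.isoPullback
    have sY : IsPullback (pullback.fst Y.hom (pullback.fst U.ι (X.fromSpecStalk x)) ≫ j)
        (pullback.snd Y.hom (pullback.fst U.ι (X.fromSpecStalk x)) ≫ u.inv) p gW := by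
      rw [← hgg]
      refine ((IsPullback.of_hasPullback Y.hom _).of_iso (Iso.refl _) (Iso.refl _) u.symm (Iso.refl _)
        ?_ ?_ ?_ ?_).paste_horiz hsq <;> simp [u]
    have sZ : IsPullback (pullback.fst Yξ.hom (pullback.snd U.ι (X.fromSpecStalk x)))
        (pullback.snd Yξ.hom (pullback.snd U.ι (X.fromSpecStalk x)) ≫ u.inv) Yξ.hom
        (FEt.puncturedSpec (X.presheaf.stalk x)).ι := by
      refine (IsPullback.of_hasPullback Yξ.hom _).of_iso (Iso.refl _) (Iso.refl _) u.symm (Iso.refl _)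
        ?_ ?_ ?_ ?_ <;> simp [u]
    refine ⟨Yξ, sY.isoPullback.symm ≪≫ φ'.symm ≪≫ sZ.isoPullback, ?_⟩
    rw [← cancel_epi sY.isoPullback.hom]
    simp only [Iso.trans_hom, Iso.symm_hom, Category.assoc, Iso.hom_inv_id_assoc,
      IsPullback.isoPullback_hom_snd]
    rw [← hφ', Category.assoc, Iso.inv_hom_id_assoc]
  · have h2 : (2 : WithBot ℕ∞) ≤ ringKrullDim (X.presheaf.stalk x) := by
      obtain ⟨d, hd⟩ := RegLocal.exists_nat_ringKrullDim (R := X.presheaf.stalk x)
      rw [hd] at h1 ⊢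
      rcases d with _ | _ | d
      · exfalso
        haveI : Ring.KrullDimLE 0 (X.presheaf.stalk x) := Ring.krullDimLE_iff.mpr (by rw [hd])
        have hb : (IsLocalRing.maximalIdeal (X.presheaf.stalk x)) = ⊥ := by
          by_contra hne
          have hbot : (⊥ : Ideal (X.presheaf.stalk x)).IsMaximal := Ideal.IsPrime.isMaximal' Ideal.isPrime_bot
          exact hne (IsLocalRing.eq_maximalIdeal hbot).symm
        refine hxU ?_
        have := hfield (IsLocalRing.closedPoint (X.presheaf.stalk x)) hb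
        exact Scheme.fromSpecStalk_closedPoint (X := X) (x := x) ▸ this
      · exact absurd (by norm_num) h1
      · exact_mod_cast Nat.le_add_left 2 d
    have hpur := Groth.Agent.S0247.result (X.presheaf.stalk x) h2
    unfold FEt.PurityHolds at hpur
    haveI := hpur
    let Y₀ : FEt.Cat (FEt.puncturedSpec (X.presheaf.stalk x) : Scheme.{u}) :=
      MorphismProperty.Over.mk ⊤ (pullback.snd p gW)
        ⟨MorphismProperty.pullback_snd (P := @IsFinite) _ _ hp1,
          MorphismProperty.pullback_snd (P := @Etale) _ _ hp2⟩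
    let φ := (FEt.restrict (FEt.puncturedSpec (X.presheaf.stalk x)).ι).objObjPreimageIso Y₀
    refine ⟨_, ((MorphismProperty.Over.forget _ _ _ ⋙ Over.forget _).mapIso φ).symm, ?_⟩
    exact MorphismProperty.Over.w φ.inv

end Groth.Agent.FEtRegExt
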